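import Mathlib.FieldTheory.IsSepClosed
import Mathlib.RingTheory.LocalRing.ResidueField.Ideal
import Mathlib.RingTheory.IntegralClosure.IntegrallyClosed
import Mathlib.RingTheory.IntegralClosure.IsIntegralClosure.Basic
import Mathlib.RingTheory.Ideal.GoingUp
import Mathlib.RingTheory.Henselian
import Mathlib.RingTheory.Localization.AtPrime.Basic

/-!
Normal domains with separably closed fraction field.
-/

set_option autoImplicit false

open Polynomial IsLocalRing

namespace Groth.Agent.SepClosedNormal

universe u

variable {A : Type u} [CommRing A] [IsDomain A] [IsIntegrallyClosed A]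
  [IsSepClosed (FractionRing A)]

omit [IsIntegrallyClosed A] in
lemma infinite : Infinite A := by
  by_contra h
  have : Finite A := not_infinite_iff_finite.mp h
  have hA : IsField A := Finite.isField_of_domain A
  have hb := IsFractionRing.surjective_iff_isField (R := A) (K := FractionRing A) |>.mpr hA
  have : Finite (FractionRing A) := Finite.of_surjective _ hb
  have : IsAlgClosed (FractionRing A) := inferInstance
  exact not_finite (FractionRing A)

/-- A separable monic polynomial over `A` of positive degree has a root in `A`. -/
lemma exists_root_of_separable {f : A[X]} (hf : f.Monic) (hd : 0 < f.natDegree)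
    (hs : (f.map (algebraMap A (FractionRing A))).Separable) : ∃ a, f.IsRoot a := by
  obtain ⟨x, hx⟩ := IsSepClosed.exists_root (f.map (algebraMap A (FractionRing A))) (by
    intro h
    have := natDegree_eq_zero_iff_degree_le_zero.mpr h.le
    rw [hf.natDegree_map] at this
    omega) hs
  rw [IsRoot.def, eval_map_algebraMap] at hx
  obtain ⟨a, rfl⟩ := IsIntegrallyClosed.algebraMap_eq_of_integral (R := A)
    (K := FractionRing A) ⟨f, hf, hx⟩
  rw [aeval_algebraMap_apply, map_eq_zero_iff _ (IsFractionRing.injective A (FractionRing A))] at hx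
  exact ⟨a, by simpa [IsRoot, coe_aeval_eq_eval] using hx⟩

/-- Every monic polynomial has a root modulo a nonzero ideal. -/
lemma exists_root_mod {I : Ideal A} (hI : I ≠ ⊥) {g : A[X]} (hg : g.Monic) (hd : 0 < g.natDegree) :
    ∃ a, g.eval a ∈ I := by
  classical
  rcases Nat.lt_or_ge g.natDegree 2 with h2 | h2
  · refine ⟨-g.coeff 0, ?_⟩
    rw [hg.eq_X_add_C (by omega)]
    simp
  have := infinite (A := A)
  obtain ⟨c, hc, hc0⟩ := Submodule.exists_mem_ne_zero_of_ne_bot hI
  have hinjc : Function.Injective fun a : A => c * a := mul_right_injective₀ hc0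
  let K := FractionRing A
  let L := AlgebraicClosure K
  have hinj : Function.Injective (algebraMap A L) := by
    rw [IsScalarTower.algebraMap_eq A K L]
    exact (algebraMap K L).injective.comp (IsFractionRing.injective A K)
  -- choose the linear coefficient
  obtain ⟨a, ha, hne⟩ : ∃ a ∈ I, derivative g + C a ≠ 0 := by
    by_contra h
    push Not at h
    have h0 := h 0 I.zero_mem
    have hc' := h c hc
    rw [map_zero, add_zero] at h0
    rw [h0, zero_add, C_eq_zero] at hc'
    exact hc0 hc'
  -- choose the constant coefficient
  let q : L[X] := (derivative g + C a).map (algebraMap A L)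
  have hq : q ≠ 0 := (Polynomial.map_ne_zero_iff hinj).mpr hne
  let bad : Finset L := q.roots.toFinset.image fun r => -((g + C a * X).map (algebraMap A L)).eval r
  obtain ⟨b, hb⟩ : ∃ b : A, algebraMap A L (c * b) ∉ bad := by
    by_contra h
    push Not at h
    exact (Set.infinite_range_of_injective (hinj.comp hinjc)).mono
      (Set.range_subset_iff.mpr h) bad.finite_toSet
  let f := g + C a * X + C (c * b)
  have hdeg : (C a * X + C (c * b)).degree < g.degree := by
    rw [degree_eq_natDegree hg.ne_zero]
    exact lt_of_le_of_lt degree_linear_le (by exact_mod_cast h2)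
  have hf : f.Monic := by
    change (g + C a * X + C (c * b)).Monic
    rw [add_assoc]; exact hg.add_of_left hdeg
  have hfd : f.natDegree = g.natDegree := by
    change (g + C a * X + C (c * b)).natDegree = _
    rw [add_assoc, natDegree_add_eq_left_of_degree_lt hdeg]
  have hs : (f.map (algebraMap A K)).Separable := by
    rw [← Polynomial.separable_map (algebraMap K L), Polynomial.map_map,
      ← IsScalarTower.algebraMap_eq, Polynomial.separable_def,
      Polynomial.isCoprime_iff_aeval_ne_zero_of_isAlgClosed L L]
    intro r
    by_contra h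
    push Not at h
    obtain ⟨h1, h2⟩ := h
    have hr : r ∈ q.roots.toFinset := by
      rw [Multiset.mem_toFinset, mem_roots']
      refine ⟨hq, ?_⟩
      simpa [q, f, IsRoot, derivative_map, coe_aeval_eq_eval] using h2
    refine hb (Finset.mem_image.mpr ⟨r, hr, ?_⟩)
    have h1' : ((g + C a * X).map (algebraMap A L)).eval r + algebraMap A L (c * b) = 0 := by
      simpa [f, coe_aeval_eq_eval] using h1
    exact (neg_eq_of_add_eq_zero_right h1').symm ▸ rfl
  obtain ⟨x, hx⟩ := exists_root_of_separable hf (hfd ▸ hd) hs
  refine ⟨x, ?_⟩
  have : g.eval x = -(a * x + c * b) := by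
    have := hx.eq_zero
    simp only [f, eval_add, eval_mul, eval_C, eval_X] at this
    linear_combination this
  rw [this]
  exact I.neg_mem (I.add_mem (I.mul_mem_right _ ha) (I.mul_mem_right _ hc))

/-- The residue field at a nonzero prime is algebraically closed. -/
theorem isAlgClosed_residueField (p : Ideal A) [p.IsPrime] (hp : p ≠ ⊥) :
    IsAlgClosed p.ResidueField := by
  let B := Localization.AtPrime p
  have : IsIntegrallyClosed B := isIntegrallyClosed_of_isLocalization (R := A) (S := B) p.primeCompl
    p.primeCompl_le_nonZeroDivisors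
  let K := FractionRing A
  let g : B →+* K := IsLocalization.map K (T := nonZeroDivisors A) (RingHom.id A)
    (show p.primeCompl ≤ (nonZeroDivisors A).comap (RingHom.id A) from p.primeCompl_le_nonZeroDivisors)
  let : Algebra B K := g.toAlgebra
  have : IsScalarTower A B K := .of_algebraMap_eq'
    (by rw [RingHom.algebraMap_toAlgebra, IsLocalization.map_comp, RingHomCompTriple.comp_eq])
  have : IsFractionRing B K :=
    IsFractionRing.isFractionRing_of_isDomain_of_isLocalization p.primeCompl B K
  have : IsSepClosed (FractionRing B) := by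
    let e : K ≃+* FractionRing B := (FractionRing.algEquiv B K).symm.toRingEquiv
    refine IsSepClosed.of_exists_root _ fun q hq hi hs => ?_
    obtain ⟨x, hx⟩ := IsSepClosed.exists_root (q.map (e.symm : FractionRing B →+* K))
      (by rw [degree_map]; exact hi.degree_pos.ne') hs.map
    refine ⟨e x, ?_⟩
    have := hx.map (f := (e : K →+* FractionRing B))
    rwa [Polynomial.map_map, RingEquiv.comp_symm, Polynomial.map_id] at this
  have hm : maximalIdeal B ≠ ⊥ := by
    rw [← Localization.AtPrime.map_eq_maximalIdeal]
    exact (Ideal.map_eq_bot_iff_of_injective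
      (IsLocalization.injective B p.primeCompl_le_nonZeroDivisors)).not.mpr hp
  refine IsAlgClosed.of_exists_root _ fun q hq hi => ?_
  have hq' : q ∈ Polynomial.lifts (IsLocalRing.residue B) := by
    rw [Polynomial.lifts_iff_coeff_lifts]
    exact fun n => IsLocalRing.residue_surjective _
  obtain ⟨g, rfl, hgd, hg⟩ := Polynomial.lifts_and_natDegree_eq_and_monic hq' hq
  obtain ⟨a, ha⟩ := exists_root_mod hm hg (hgd.symm ▸ hi.natDegree_pos)
  refine ⟨IsLocalRing.residue B a, ?_⟩
  rw [eval_map, eval₂_at_apply]
  exact (IsLocalRing.residue_eq_zero_iff _).mpr ha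

/-- Henselian. -/
theorem henselianLocalRing [IsLocalRing A] : HenselianLocalRing A := by
  refine ⟨fun f hf a₀ h₁ h₂ => ?_⟩
  let K := FractionRing A
  let L := AlgebraicClosure K
  have hinjK := IsFractionRing.injective A K
  have hinjL : Function.Injective (algebraMap A L) := by
    rw [IsScalarTower.algebraMap_eq A K L]
    exact (algebraMap K L).injective.comp hinjK
  let B := integralClosure A L
  obtain ⟨M, -, hMp, hMA⟩ := Ideal.exists_ideal_over_prime_of_isIntegral (maximalIdeal A) (⊥ : Ideal B)
    (by
      intro x hx
      rw [Ideal.mem_comap, Ideal.mem_bot] at hx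
      rw [(map_eq_zero_iff (algebraMap A B) (fun y z h => hinjL (congrArg Subtype.val h))).mp hx]
      exact zero_mem _)
  have hfL : f.map (algebraMap A L) =
      ((f.map (algebraMap A L)).roots.map fun r => X - C r).prod :=
    (IsAlgClosed.splits _).eq_prod_roots_of_monic (hf.map _)
  have hint : ∀ r ∈ (f.map (algebraMap A L)).roots, IsIntegral A r := fun r hr =>
    ⟨f, hf, by rw [← eval_map]; exact (mem_roots'.mp hr).2⟩
  -- some root is congruent to a₀
  let rs : Multiset B := (f.map (algebraMap A L)).roots.attach.map fun r => ⟨r.1, hint r.1 r.2⟩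
  have hev : algebraMap A B (f.eval a₀) = (rs.map fun r => algebraMap A B a₀ - r).prod := by
    apply Subtype.val_injective
    change algebraMap A L (f.eval a₀) = B.val _
    rw [map_multiset_prod, Multiset.map_map]
    have hrs : rs.map B.val = (f.map (algebraMap A L)).roots := by
      change (Multiset.map _ _).map _ = _
      rw [Multiset.map_map]
      exact Multiset.attach_map_val _
    rw [← eval₂_at_apply, ← eval_map]
    conv_lhs => rw [hfL]
    conv_lhs => rw [← hrs]
    rw [eval_multiset_prod, Multiset.map_map, Multiset.map_map]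
    refine congrArg Multiset.prod (Multiset.map_congr rfl fun r _ => ?_)
    simp
  have hmem : (rs.map fun r => algebraMap A B a₀ - r).prod ∈ M := by
    rw [← hev, ← Ideal.mem_comap, hMA]; exact h₁
  obtain ⟨y, hy, hyM⟩ := (Ideal.IsPrime.multiset_prod_mem_iff_exists_mem hMp _).mp hmem
  obtain ⟨⟨r, hrint⟩, hr, rfl⟩ := Multiset.mem_map.mp hy
  obtain ⟨⟨r', hr'⟩, -, e⟩ := Multiset.mem_map.mp hr
  obtain rfl : r' = r := congrArg Subtype.val e
  have hroot : aeval r' f = 0 := by
    have := (mem_roots'.mp hr').2
    rwa [IsRoot.def, eval_map_algebraMap] at this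
  have hsimple : aeval r' (derivative f) ≠ 0 := by
    intro h0
    have hB : aeval (⟨r', hrint⟩ : B) (derivative f) = 0 := Subtype.val_injective (by
      change B.val (aeval _ _) = 0
      rw [← aeval_algHom_apply]; exact h0)
    have : algebraMap A B ((derivative f).eval a₀) ∈ M := by
      have hdvd := sub_dvd_eval_sub (algebraMap A B a₀) (⟨r', hrint⟩ : B)
        ((derivative f).map (algebraMap A B))
      rw [eval_map, eval₂_at_apply, eval_map_algebraMap, hB, sub_zero] at hdvd
      exact M.mem_of_dvd hdvd hyM
    rw [← Ideal.mem_comap, hMA] at this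
    exact this h₂
  have hralg : IsIntegral K r' := hrint.tower_top
  have hd : aeval r' (derivative (minpoly K r')) ≠ 0 := by
    intro h0
    have hdvd : minpoly K r' ∣ f.map (algebraMap A K) :=
      minpoly.dvd K r' (by rw [aeval_map_algebraMap, hroot])
    obtain ⟨q, hq⟩ := hdvd
    apply hsimple
    rw [← aeval_map_algebraMap K, ← derivative_map, hq, derivative_mul, map_add, map_mul, map_mul,
      h0, minpoly.aeval, zero_mul, zero_mul, add_zero]
  have hsep : (minpoly K r').Separable :=
    (separable_iff_derivative_ne_zero (minpoly.irreducible hralg)).mpr fun h0 => hd (by simp [h0])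
  have hdeg : (minpoly K r').degree = 1 :=
    IsSepClosed.degree_eq_one_of_irreducible _ (minpoly.irreducible hralg) hsep
  obtain ⟨k, hk⟩ := minpoly.mem_range_of_degree_eq_one K r' hdeg
  subst hk
  have hk' : IsIntegral A k := (isIntegral_algebraMap_iff (algebraMap K L).injective).mp hrint
  obtain ⟨x, rfl⟩ := IsIntegrallyClosed.algebraMap_eq_of_integral hk'
  rw [← IsScalarTower.algebraMap_apply A K L, aeval_algebraMap_apply,
    map_eq_zero_iff _ hinjL] at hroot
  refine ⟨x, hroot, ?_⟩
  rw [← hMA, Ideal.mem_comap, map_sub]
  have hx : algebraMap A B x = ⟨_, hrint⟩ := Subtype.val_injective (IsScalarTower.algebraMap_apply A K L x)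
  rw [hx, ← neg_sub]
  exact M.neg_mem hyM

theorem isSepClosed_residueField [IsLocalRing A] : IsSepClosed (ResidueField A) := by
  by_cases h : maximalIdeal A = ⊥
  · have hA : IsField A := IsLocalRing.isField_iff_maximalIdeal_eq.mpr h
    have hK := IsFractionRing.surjective_iff_isField (R := A) (K := FractionRing A) |>.mpr hA
    let e : FractionRing A ≃+* ResidueField A :=
      (RingEquiv.ofBijective (algebraMap A (FractionRing A))
        ⟨IsFractionRing.injective _ _, hK⟩).symm.trans
        (RingEquiv.ofBijective (residue A)
          ⟨(injective_iff_map_eq_zero _).mpr fun x hx => by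
            rwa [residue_eq_zero_iff, h, Ideal.mem_bot] at hx, residue_surjective⟩)
    refine IsSepClosed.of_exists_root _ fun q hq hi hs => ?_
    obtain ⟨x, hx⟩ := IsSepClosed.exists_root (q.map (e.symm : ResidueField A →+* FractionRing A))
      (by rw [degree_map]; exact hi.degree_pos.ne') hs.map
    refine ⟨e x, ?_⟩
    have := hx.map (f := (e : FractionRing A →+* ResidueField A))
    rwa [Polynomial.map_map, RingEquiv.comp_symm, Polynomial.map_id] at this
  · refine IsSepClosed.of_exists_root _ fun q hq hi hs => ?_
    have hq' : q ∈ Polynomial.lifts (residue A) := by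
      rw [Polynomial.lifts_iff_coeff_lifts]
      exact fun n => residue_surjective _
    obtain ⟨g, rfl, hgd, hg⟩ := Polynomial.lifts_and_natDegree_eq_and_monic hq' hq
    obtain ⟨a, ha⟩ := exists_root_mod h hg (hgd.symm ▸ hi.natDegree_pos)
    refine ⟨residue A a, ?_⟩
    rw [eval_map, eval₂_at_apply]
    exact (residue_eq_zero_iff _).mpr ha

end Groth.Agent.SepClosedNormal
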